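import Cfsg.Agent.H817.DPi.Def
import Cfsg.Agent.H380.RV.Lin
import Cfsg.Agent.H553.RV.LinG

/-!
# S4247, row `[L]` (`PSL_n(q)`, `n ≥ 3`, `p ∉ π`): definitions and statements (helper506)

`V = F ^ n`.  `GamL F n` : the semilinear permutations of `V`; `Ind h α` : `h` induces the automorphism `α` of `PSL_n(F)`;
`hat X` : the semilinear permutations which induce elements of `X ≤ Aut PSL_n(F)`.

`Lift P P'` : `P' ≤ GL_n(F)` is a Hall `π`-subgroup and `P` is the image of `P' ∩ SL_n(F)`.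

`Fr π P' t m f` : `t ∈ π` a prime with `2 e(t) < t`, `f` a frame of `P'` for `t` (`H553.RV.Fm`) whose supports
`Rg ρ (f i)` are permuted by `P'`.
-/

set_option autoImplicit false
set_option linter.unusedSectionVars false

namespace Cfsg.Agent.H506.DPL

open Matrix Module Cfsg Cfsg.Agent.H167.OP Cfsg.Agent.H170.HL Cfsg.Agent.H556.HallRowAbs Cfsg.Agent.H553.RV
open Cfsg.Agent.H817.DPi

universe u

/-- the semilinear permutations of `F ^ n` -/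
def GamL (F : Type) [Field F] (n : ℕ) : Subgroup (Equiv.Perm (Fin n → F)) where
  carrier := {h | (∀ v w, h (v + w) = h v + h w) ∧ ∃ σ : F ≃+* F, ∀ (c : F) (v : Fin n → F), h (c • v) = σ c • h v}
  mul_mem' := by
    rintro a b ⟨ha, σ, hσ⟩ ⟨hb, τ, hτ⟩
    refine ⟨fun v w => ?_, τ.trans σ, fun c v => ?_⟩
    · rw [Equiv.Perm.mul_apply, hb, ha]; rfl
    · rw [Equiv.Perm.mul_apply, hτ, hσ]; rfl
  one_mem' := ⟨fun _ _ => rfl, RingEquiv.refl F, fun _ _ => rfl⟩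
  inv_mem' := by
    rintro a ⟨ha, σ, hσ⟩
    refine ⟨fun v w => a.injective ?_, σ.symm, fun c v => a.injective ?_⟩
    · rw [ha]; simp
    · rw [hσ]; simp

section
variable {F : Type} [Field F] {n : ℕ}

/-- `h` induces `α` -/
def Ind (h : Equiv.Perm (Fin n → F)) (α : MulAut (ProjectiveSpecialLinearGroup (Fin n) F)) : Prop :=
  ∀ s s' : SpecialLinearGroup (Fin n) F, (∀ v, h (s.1 *ᵥ v) = s'.1 *ᵥ (h v)) →
    α (QuotientGroup.mk s : ProjectiveSpecialLinearGroup (Fin n) F) = QuotientGroup.mk s'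

/-- the semilinear permutations inducing elements of `X` -/
def hat (X : Subgroup (MulAut (ProjectiveSpecialLinearGroup (Fin n) F))) : Subgroup (Equiv.Perm (Fin n → F)) :=
  Subgroup.closure {h | h ∈ GamL F n ∧ ∃ α ∈ X, Ind h α}

/-- the group `P × K` -/
def AA (P : Subgroup (ProjectiveSpecialLinearGroup (Fin n) F))
    (K : Subgroup (MulAut (ProjectiveSpecialLinearGroup (Fin n) F))) :
    Subgroup (MulAut (ProjectiveSpecialLinearGroup (Fin n) F)) :=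
  P.map MulAut.conj ⊔ K

/-- no element of `hat X` maps `x` into the line of `y` -/
def Sep (X : Subgroup (MulAut (ProjectiveSpecialLinearGroup (Fin n) F))) (x y : Fin n → F) : Prop :=
  ∀ h ∈ hat X, ∀ c : F, h x ≠ c • y

/-- the representation of `GL_n(F)` -/
noncomputable abbrev rg (F : Type) [Field F] (n : ℕ) : Representation F (Matrix (Fin n) (Fin n) F)ˣ (Fin n → F) :=
  rep (Units.coeHom (Matrix (Fin n) (Fin n) F))

/-- the order of `q` modulo `t` -/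
noncomputable abbrev eo (F : Type) [Field F] [Fintype F] (t : ℕ) : ℕ := orderOf (Fintype.card F : ZMod t)

/-- the unit of a matrix of determinant one -/
def toU : SpecialLinearGroup (Fin n) F →* (Matrix (Fin n) (Fin n) F)ˣ := SpecialLinearGroup.toGL

/-- `P'` lifts `P` -/
structure Lift [Fintype F] (π : Set ℕ) (P : Subgroup (ProjectiveSpecialLinearGroup (Fin n) F))
    (P' : Subgroup (Matrix (Fin n) (Fin n) F)ˣ) : Prop where
  hall : IsPiHall π P'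
  down : ∀ s : SpecialLinearGroup (Fin n) F, toU s ∈ P' → (QuotientGroup.mk s : ProjectiveSpecialLinearGroup (Fin n) F) ∈ P
  up : ∀ x ∈ P, ∃ s : SpecialLinearGroup (Fin n) F, toU s ∈ P' ∧ (QuotientGroup.mk s : ProjectiveSpecialLinearGroup (Fin n) F) = x

/-- the frame -/
structure Fr [Fintype F] (π : Set ℕ) (P' : Subgroup (Matrix (Fin n) (Fin n) F)ˣ) (t m : ℕ)
    (f : Fin m → (Matrix (Fin n) (Fin n) F)ˣ) : Prop where
  prime : t.Prime
  mem : t ∈ π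
  gen : 2 * eo F t < t
  exc : ¬ (n = 3 ∧ t = 3)
  pos : 0 < m
  fm : Fm (rg F n) (eo F) P' t m f
  perm : ∀ g ∈ P', ∀ i, ∃ j, (Rg (rg F n) (f i)).map (rg F n g) = Rg (rg F n) (f j)
  hc : HC F P'

/-- the common fixed space of the frame -/
noncomputable def V0 {m : ℕ} (f : Fin m → (Matrix (Fin n) (Fin n) F)ˣ) : Submodule F (Fin n → F) :=
  ⨅ i, LinearMap.ker (rg F n (f i) - 1)

end

/-! ## The statements -/

/-- L1a -/
def StHat : Prop := ∀ (F : Type) [Field F] [Fintype F] (n : ℕ)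
  (X : Subgroup (MulAut (ProjectiveSpecialLinearGroup (Fin n) F))) (h : Equiv.Perm (Fin n → F)),
  2 ≤ n → (h ∈ hat X ↔ h ∈ GamL F n ∧ ∃ α ∈ X, Ind h α)

/-- L1b: `|B ∩ S|` divides `|hat B|` -/
def StHatCard : Prop := ∀ (F : Type) [Field F] [Fintype F] (n : ℕ)
  (X : Subgroup (MulAut (ProjectiveSpecialLinearGroup (Fin n) F))), 2 ≤ n →
  Nat.card (X.comap MulAut.conj) ∣ Nat.card (hat X)

/-- L1c: transitivity of `hat B` on the points -/
def StTrans : Prop := ∀ (π : Set ℕ) (F : Type) [Field F] [Fintype F] (n : ℕ)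
  (P : Subgroup (ProjectiveSpecialLinearGroup (Fin n) F))
  (K B : Subgroup (MulAut (ProjectiveSpecialLinearGroup (Fin n) F))),
  3 ≤ n → Cfg π P K B → ∀ x y z : Fin n → F, x ≠ 0 → y ≠ 0 → z ≠ 0 →
  Sep (AA P K) x y → Sep (AA P K) x z → Sep (AA P K) y z →
  ∀ v w : Fin n → F, v ≠ 0 → w ≠ 0 → ∃ h ∈ hat B, ∃ c : F, h v = c • w

/-- L1d: `hat B` does not contain `SL_n(F)` -/
def StNoSL : Prop := ∀ (π : Set ℕ) (F : Type) [Field F] [Fintype F] (n : ℕ)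
  (P : Subgroup (ProjectiveSpecialLinearGroup (Fin n) F))
  (K B : Subgroup (MulAut (ProjectiveSpecialLinearGroup (Fin n) F))),
  3 ≤ n → Cfg π P K B →
  ¬ ∀ g : (Fin n → F) ≃ₗ[F] (Fin n → F), LinearEquiv.det g = 1 → ∃ h ∈ hat B, ∀ v, h v = g v

/-- L1e: the elements of `hat (P × K)` : `h = c s k`, `s ∈ P'`, `k` induces an element of `K` -/
def StForm : Prop := ∀ (π : Set ℕ) (F : Type) [Field F] [Fintype F] (n : ℕ)
  (P : Subgroup (ProjectiveSpecialLinearGroup (Fin n) F)) (P' : Subgroup (Matrix (Fin n) (Fin n) F)ˣ)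
  (K : Subgroup (MulAut (ProjectiveSpecialLinearGroup (Fin n) F))),
  3 ≤ n → (∀ k ∈ K, ∀ x ∈ P, k x = x) → Lift π P P' → ∀ h ∈ hat (AA P K),
  ∃ (s : SpecialLinearGroup (Fin n) F) (k : Equiv.Perm (Fin n → F)) (α : MulAut (ProjectiveSpecialLinearGroup (Fin n) F)),
    toU s ∈ P' ∧ k ∈ GamL F n ∧ α ∈ K ∧ Ind k α ∧ ∀ v, h v = s.1 *ᵥ (k v)

/-- L1f: the lift of the Hall subgroup (S4350) -/
def StLift : Prop := ∀ (π : Set ℕ) (p : ℕ) (F : Type) [Field F] [Fintype F] [CharP F p] (n : ℕ)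
  (P : Subgroup (ProjectiveSpecialLinearGroup (Fin n) F)), p.Prime → p ∉ π → 2 ∉ π → 2 ≤ n → IsPiHall π P →
  ∃ P' : Subgroup (Matrix (Fin n) (Fin n) F)ˣ, Lift π P P'

/-- L2a: existence of the frame -/
def StFr : Prop := ∀ (π : Set ℕ) (p : ℕ) (F : Type) [Field F] [Fintype F] [CharP F p] (n : ℕ)
  (P' : Subgroup (Matrix (Fin n) (Fin n) F)ˣ), p.Prime → p ∉ π → 2 ∉ π → 3 ≤ n → IsPiHall π P' →
  ¬ Group.IsNilpotent P' → ∃ (t m : ℕ) (f : Fin m → (Matrix (Fin n) (Fin n) F)ˣ), Fr π P' t m f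

/-- L2b: the decomposition `V = V_0 ⊕ W_1 ⊕ ... ⊕ W_m` -/
def StDec : Prop := ∀ (π : Set ℕ) (p : ℕ) (F : Type) [Field F] [Fintype F] [CharP F p] (n : ℕ)
  (P' : Subgroup (Matrix (Fin n) (Fin n) F)ˣ) (t m : ℕ) (f : Fin m → (Matrix (Fin n) (Fin n) F)ˣ),
  p.Prime → p ∉ π → Fr π P' t m f →
  finrank F (V0 f) + m * eo F t = n ∧ finrank F (V0 f) < eo F t ∧
  (∀ g ∈ P', ∀ v ∈ V0 f, rg F n g v ∈ V0 f) ∧
  (∀ v : Fin n → F, ∃ v0 ∈ V0 f, ∃ w : Fin m → (Fin n → F), (∀ i, w i ∈ Rg (rg F n) (f i)) ∧ v = v0 + ∑ i, w i) ∧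
  (∀ i, ∀ w ∈ Rg (rg F n) (f i), rg F n (f i) w = w → w = 0)

/-- L2c: the semilinear maps inducing elements centralising `P` -/
def StCen : Prop := ∀ (π : Set ℕ) (p : ℕ) (F : Type) [Field F] [Fintype F] [CharP F p] (n : ℕ)
  (P : Subgroup (ProjectiveSpecialLinearGroup (Fin n) F)) (P' : Subgroup (Matrix (Fin n) (Fin n) F)ˣ)
  (t m : ℕ) (f : Fin m → (Matrix (Fin n) (Fin n) F)ˣ),
  p.Prime → p ∉ π → 3 ≤ n → Lift π P P' → Fr π P' t m f →
  ∀ (k : Equiv.Perm (Fin n → F)) (α : MulAut (ProjectiveSpecialLinearGroup (Fin n) F)), k ∈ GamL F n → Ind k α →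
    (∀ x ∈ P, α x = x) →
    (∀ i, ∀ w ∈ Rg (rg F n) (f i), k w ∈ Rg (rg F n) (f i)) ∧ (∀ v ∈ V0 f, k v ∈ V0 f) ∧
    (2 ≤ eo F t → ∀ i v, k (rg F n (f i) v) = rg F n (f i) (k v))

/-- L2d: the `p`-part of `C_S(P)` -/
def StPPart : Prop := ∀ (π : Set ℕ) (p : ℕ) (F : Type) [Field F] [Fintype F] [CharP F p] (n : ℕ)
  (P : Subgroup (ProjectiveSpecialLinearGroup (Fin n) F)) (P' : Subgroup (Matrix (Fin n) (Fin n) F)ˣ)
  (t m : ℕ) (f : Fin m → (Matrix (Fin n) (Fin n) F)ˣ),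
  p.Prime → p ∉ π → 3 ≤ n → Lift π P P' → Fr π P' t m f →
  ∀ (K' : Subgroup (ProjectiveSpecialLinearGroup (Fin n) F)), (∀ x ∈ P, ∀ k ∈ K', x * k = k * x) →
  ∀ j : ℕ, p ^ j ∣ Nat.card K' →
    p ^ j ≤ Fintype.card F ^ (finrank F (V0 f) * (finrank F (V0 f) - 1) / 2)

/-- L4: Hering elimination -/
def StLH : Prop := ∀ (p a : ℕ) (F : Type) [Field F] [Fintype F] (n n0 j : ℕ) (H : Subgroup (Equiv.Perm (Fin n → F))),
  p.Prime → Fintype.card F = p ^ a → 3 ≤ n → 2 * n0 + 1 ≤ n → H ≤ GamL F n →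
  (∀ v w : Fin n → F, v ≠ 0 → w ≠ 0 → ∃ h ∈ H, ∃ c : F, h v = c • w) →
  (¬ ∀ g : (Fin n → F) ≃ₗ[F] (Fin n → F), LinearEquiv.det g = 1 → ∃ h ∈ H, ∀ v, h v = g v) →
  p ^ j ∣ Nat.card H →
  p ^ j * Fintype.card F ^ (n0 * (n0 - 1) / 2) * (2 * a) < Fintype.card F ^ (n * (n - 1) / 2)

/-- L6: the counting `|S|_p ≤ |B ∩ S|_p |C_S(P)|_p |Out S|_p` -/
def StCnt : Prop := ∀ (π : Set ℕ) (p a : ℕ) (F : Type) [Field F] [Fintype F] (n : ℕ)
  (P : Subgroup (ProjectiveSpecialLinearGroup (Fin n) F))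
  (K B : Subgroup (MulAut (ProjectiveSpecialLinearGroup (Fin n) F))),
  p.Prime → p ∉ π → Fintype.card F = p ^ a → 3 ≤ n → Cfg π P K B →
  ∃ i j : ℕ, p ^ i ∣ Nat.card (B.comap MulAut.conj) ∧ p ^ j ∣ Nat.card (K.comap MulAut.conj) ∧
    Fintype.card F ^ (n * (n - 1) / 2) ≤ p ^ i * p ^ j * (2 * a)

/-- L7: the input of `la_prime` (case `V_0 = 0`, `m = 1`, `e t = n`) -/
def StNum : Prop := ∀ (π : Set ℕ) (p : ℕ) (F : Type) [Field F] [Fintype F] [CharP F p] (n : ℕ)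
  (P' : Subgroup (Matrix (Fin n) (Fin n) F)ˣ) (t m : ℕ) (f : Fin m → (Matrix (Fin n) (Fin n) F)ˣ),
  p.Prime → p ∉ π → 2 ∉ π → 3 ≤ n → IsPiHall π P' → ¬ Group.IsNilpotent P' → Fr π P' t m f → eo F t = n →
  n.Prime ∧ n ∈ π ∧ eo F n = n - 1 ∧ ¬ n ^ 2 ∣ Fintype.card F ^ (n - 1) - 1 ∧
    ∀ r ∈ π, r.Prime → r ∣ Nat.card (Matrix (Fin n) (Fin n) F)ˣ → r ≠ n → eo F r = n

end Cfsg.Agent.H506.DPL
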