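import Cfsg.Agent.H506.DPL.Defs2
import Cfsg.Agent.H159.DPi.LaPrime
import Cfsg.Agent.H159.DPi.CfgT
import Cfsg.Agent.H817.DPi.TInd

/-!
# S4247, row `[L]`: the assembly (helper506)
-/

set_option autoImplicit false
set_option linter.unusedSectionVars false

namespace Cfsg.Agent.H506.DPL

open Matrix Module Cfsg Cfsg.Agent.H167.OP Cfsg.Agent.H170.HL Cfsg.Agent.H556.HallRowAbs Cfsg.Agent.H553.RV
open Cfsg.Agent.H817.DPi

universe u

/-- the pieces -/
structure PiecesL : Prop where
  hat : StHat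
  hatCard : StHatCard
  trans : StTrans
  noSL : StNoSL
  form : StForm
  lift : StLift
  fr : StFr
  dec : StDec
  cen : StCen
  ppart : StPPart
  lh : StLH
  cnt : StCnt
  num : StNum
  three : StThree
  two : StTwo

section
variable {F : Type} [Field F] [Fintype F] {n : ℕ}

/-- `P` is nilpotent if `P'` is -/
theorem Lift.nil {π : Set ℕ} {P : Subgroup (ProjectiveSpecialLinearGroup (Fin n) F)}
    {P' : Subgroup (Matrix (Fin n) (Fin n) F)ˣ} (hl : Lift π P P') (hn : Group.IsNilpotent P') :
    Group.IsNilpotent P := by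
  let H : Subgroup (SpecialLinearGroup (Fin n) F) := P'.comap (toU (F := F) (n := n))
  have hinj : Function.Injective (toU : SpecialLinearGroup (Fin n) F →* (Matrix (Fin n) (Fin n) F)ˣ) := by
    intro a b hab
    apply Subtype.ext
    exact congrArg Units.val hab
  have hH : Group.IsNilpotent H := by
    let g : H →* P' := (toU.comp H.subtype).codRestrict P' (fun x => x.2)
    have hg : Function.Injective g := by
      intro a b hab
      exact Subtype.ext (hinj (congrArg Subtype.val hab))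
    exact Subgroup.isNilpotent_of_ker_le_center g (by rw [(MonoidHom.ker_eq_bot_iff g).2 hg]; exact bot_le)
  let k : H →* P := ((QuotientGroup.mk' (Subgroup.center (SpecialLinearGroup (Fin n) F))).comp H.subtype).codRestrict P
    (fun x => hl.down x.1 x.2)
  have hk : Function.Surjective k := by
    rintro ⟨x, hx⟩
    obtain ⟨s, hs, hsx⟩ := hl.up x hx
    exact ⟨⟨s, hs⟩, Subtype.ext hsx⟩
  exact Group.nilpotent_of_surjective k hk

end

/-- **The row for `n ≥ 3`.** -/
theorem row_three (X : PiecesL) {π : Set ℕ} {F : Type} [Field F] [Fintype F] {p n : ℕ} [CharP F p] (hp : p.Prime)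
    (hpπ : p ∉ π) {S : Type u} [Group S] [Finite S] [IsSimpleGroup S]
    (e : S ≃* ProjectiveSpecialLinearGroup (Fin n) F) (hn : 3 ≤ n) : Row π S := by
  intro P K B h _
  have hfin : Finite (ProjectiveSpecialLinearGroup (Fin n) F) := Finite.of_equiv _ e.toEquiv
  have h' := H159.DPi.Cfg.congr e h
  set P1 := P.map (e : S →* ProjectiveSpecialLinearGroup (Fin n) F)
  set K1 := K.map (MulAut.congr e : MulAut S →* MulAut (ProjectiveSpecialLinearGroup (Fin n) F))
  set B1 := B.map (MulAut.congr e : MulAut S →* MulAut (ProjectiveSpecialLinearGroup (Fin n) F))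
  obtain ⟨P', hl⟩ := X.lift π p F n P1 hp hpπ h'.two (by omega) h'.hall
  have hnn : ¬ Group.IsNilpotent P' := fun hc => h'.nnil (hl.nil hc)
  obtain ⟨t, m, f, hfr⟩ := X.fr π p F n P' hp hpπ h'.two hn hl.hall hnn
  obtain ⟨hd1, hd2, -, -, -⟩ := X.dec π p F n P' t m f hp hpπ hfr
  by_cases hc : 0 < finrank F (V0 f) ∨ 2 ≤ m
  · exfalso
    obtain ⟨x, y, z, hx, hy, hz, hxy, hxz, hyz⟩ := X.three π p F n P1 P' K1 t m f hp hpπ h'.two hn h'.fix hl hfr hc
    have htr := X.trans π F n P1 K1 B1 hn h' x y z hx hy hz hxy hxz hyz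
    have hno := X.noSL π F n P1 K1 B1 hn h'
    have hle : Cfsg.Agent.H506.DPL.hat B1 ≤ GamL F n := fun g hg => ((X.hat F n B1 g (by omega)).1 hg).1
    obtain ⟨a, -, ha⟩ := FiniteField.card F p
    obtain ⟨i, j, hi, hj, hij⟩ := X.cnt π p a F n P1 K1 B1 hp hpπ ha hn h'
    have hi' : p ^ i ∣ Nat.card (Cfsg.Agent.H506.DPL.hat B1) := hi.trans (X.hatCard F n B1 (by omega))
    have hj' := X.ppart π p F n P1 P' t m f hp hpπ hn hl hfr (K1.comap MulAut.conj) (by
      intro x hx k hk
      have h1 : k * x * k⁻¹ = x := h'.fix _ hk x hx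
      exact (mul_inv_eq_iff_eq_mul.1 h1).symm) j hj
    have hmt : eo F t ≤ m * eo F t := Nat.le_mul_of_pos_left _ hfr.pos
    have hlt := X.lh p a F n (finrank F (V0 f)) i (Cfsg.Agent.H506.DPL.hat B1) hp ha hn (by omega) hle htr hno hi'
    have h1 : p ^ i * p ^ j * (2 * (a : ℕ)) ≤
        p ^ i * Fintype.card F ^ (finrank F (V0 f) * (finrank F (V0 f) - 1) / 2) * (2 * (a : ℕ)) :=
      Nat.mul_le_mul_right _ (Nat.mul_le_mul_left _ hj')
    omega
  · have hm := hfr.pos
    have hm1 : m = 1 := by omega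
    have hV : finrank F (V0 f) = 0 := by omega
    have het : eo F t = n := by
      rw [hV, zero_add] at hd1
      rw [← hd1]
      generalize eo F t = k
      rw [hm1, one_mul]
    obtain ⟨hnp, hnπ, ho, hs, hr⟩ := X.num π p F n P' t m f hp hpπ h'.two hn hl.hall hnn hfr het
    refine H159.DPi.la_prime hp hpπ e hnp hn hnπ ho hs ?_ h
    intro r hrπ hrp hrd hrn
    refine hr r hrπ hrp ?_ hrn
    have h1 : Nat.card S = Nat.card (ProjectiveSpecialLinearGroup (Fin n) F) := Nat.card_congr e.toEquiv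
    have h2 : Nat.card (ProjectiveSpecialLinearGroup (Fin n) F) ∣ Nat.card (SpecialLinearGroup (Fin n) F) :=
      Subgroup.card_quotient_dvd_card _
    have h3 : Nat.card (SpecialLinearGroup (Fin n) F) ∣ Nat.card (Matrix (Fin n) (Fin n) F)ˣ := by
      refine Subgroup.card_dvd_of_injective (toU : SpecialLinearGroup (Fin n) F →* (Matrix (Fin n) (Fin n) F)ˣ) ?_
      intro a b hab
      apply Subtype.ext
      exact congrArg Units.val hab
    rw [h1] at hrd
    exact hrd.trans (h2.trans h3)

/-- **Row `[L]` from the pieces.** -/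
theorem row_psl_of (X : PiecesL) {π : Set ℕ} {S : Type u} [Group S] [Finite S] [IsSimpleGroup S] {p : ℕ} (hp : p.Prime)
    (hpπ : p ∉ π) (h : IsPSLChar p S) : Row π S := by
  obtain ⟨F, i1, i2, i3, n, hn, -, ⟨e⟩⟩ := h
  rcases Nat.lt_or_ge n 3 with h3 | h3
  · have hn2 : n = 2 := by omega
    subst hn2
    intro P K B h _
    exfalso
    have hfin : Finite (ProjectiveSpecialLinearGroup (Fin 2) F) := Finite.of_equiv _ e.toEquiv
    have h' := H159.DPi.Cfg.congr e h
    exact h'.nnil (X.two π p F _ hp hpπ h'.two h'.hall)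
  · exact row_three X hp hpπ e h3

end Cfsg.Agent.H506.DPL
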