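import Cfsg.Agent.H506.DPL.Defs

/-! # S4247, row `[L]`: three more statements (helper506) -/

set_option autoImplicit false
set_option linter.unusedSectionVars false

namespace Cfsg.Agent.H506.DPL

open Matrix Module Cfsg Cfsg.Agent.H167.OP Cfsg.Agent.H170.HL Cfsg.Agent.H556.HallRowAbs Cfsg.Agent.H553.RV
open Cfsg.Agent.H817.DPi

/-- L8: three separated points (inputs: `StForm`, `StDec`, `StCen`) -/
def StThree : Prop := ∀ (π : Set ℕ) (p : ℕ) (F : Type) [Field F] [Fintype F] [CharP F p] (n : ℕ)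
  (P : Subgroup (ProjectiveSpecialLinearGroup (Fin n) F)) (P' : Subgroup (Matrix (Fin n) (Fin n) F)ˣ)
  (K : Subgroup (MulAut (ProjectiveSpecialLinearGroup (Fin n) F)))
  (t m : ℕ) (f : Fin m → (Matrix (Fin n) (Fin n) F)ˣ),
  p.Prime → p ∉ π → 2 ∉ π → 3 ≤ n → (∀ k ∈ K, ∀ x ∈ P, k x = x) → Lift π P P' → Fr π P' t m f →
  (0 < finrank F (V0 f) ∨ 2 ≤ m) →
  ∃ x y z : Fin n → F, x ≠ 0 ∧ y ≠ 0 ∧ z ≠ 0 ∧ Sep (AA P K) x y ∧ Sep (AA P K) x z ∧ Sep (AA P K) y z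

/-- L9: `n = 2` : the odd `p'`-subgroups of `PSL_2(q)` are nilpotent (cyclic) -/
def StTwo : Prop := ∀ (π : Set ℕ) (p : ℕ) (F : Type) [Field F] [Fintype F] [CharP F p]
  (P : Subgroup (ProjectiveSpecialLinearGroup (Fin 2) F)), p.Prime → p ∉ π → 2 ∉ π → IsPiHall π P →
  Group.IsNilpotent P

end Cfsg.Agent.H506.DPL
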