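import Cfsg.Agent.H506.DPL.Two
import Cfsg.Agent.H125.DPi.Bridge
import Cfsg.Agent.H199.DPL.Main
import Cfsg.Agent.H735.DPL.Three
import Cfsg.Agent.H855.DP.StPPart
import Cfsg.Agent.H159.DPi.StNum
import Cfsg.Agent.H990.DPL.Cen
import Cfsg.Agent.H462.DPK.Cnt

/-! # S4247, row `[L]` from the conjugacy of odd Hall subgroups and the Hering elimination (helper506) -/

set_option autoImplicit false
set_option linter.unusedSectionVars false

namespace Cfsg.Agent.H506.DPL

open Matrix Module Cfsg Cfsg.Agent.H817.DPi

universe u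

open Pointwise in
theorem row_psl_fin (h4350 : ∀ (G : Type) [Group G] [Finite G] (π : Set ℕ), 2 ∉ π → ∀ H K : Subgroup G,
      IsPiHall π H → IsPiHall π K → ∃ g : G, K = MulAut.conj g • H) (hlh : StLH)
    {π : Set ℕ} {S : Type u} [Group S] [Finite S] [IsSimpleGroup S] {p : ℕ} (hp : p.Prime)
    (hpπ : p ∉ π) (h : IsPSLChar p S) : Row π S := by
  have hlift := H125.DPi.Bridge.st_lift h4350
  have hcen := H990.DPL.st_cen
  have hdec := H199.DPL.st_dec
  exact row_psl_of
    { hat := H125.DPi.Bridge.st_hat
      hatCard := H125.DPi.Bridge.st_hatCard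
      trans := H125.DPi.Bridge.st_trans
      noSL := H125.DPi.Bridge.st_noSL
      form := H125.DPi.Bridge.st_form
      lift := hlift
      fr := H199.DPL.st_fr
      dec := hdec
      cen := hcen
      ppart := H855.DP.st_ppart hcen hdec
      lh := hlh
      cnt := H462.DPK.st_cnt
      num := H159.DPi.st_num
      three := H735.DPL.st_three H125.DPi.Bridge.st_form hdec hcen
      two := st_two hlift } hp hpπ h

end Cfsg.Agent.H506.DPL
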