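import Cfsg.Agent.H506.DPL.Fin
import Cfsg.Agent.H783.Her.StLHFull
import Cfsg.Agent.S4350

/-! # S4247, row `[L]` (helper506) -/

set_option autoImplicit false

namespace Cfsg.Agent.H506.DPL

open Cfsg Cfsg.Agent.H817.DPi

universe u

/-- **Row `[L]`.** -/
theorem row_psl {π : Set ℕ} {S : Type u} [Group S] [Finite S] [IsSimpleGroup S] {p : ℕ} (hp : p.Prime)
    (hpπ : p ∉ π) (h : IsPSLChar p S) : Row π S :=
  row_psl_fin (fun G _ _ π h2 H K hH hK => Cfsg.Agent.S4350.result π h2 H K hH hK) H783.Her.st_lh hp hpπ h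

end Cfsg.Agent.H506.DPL
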