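import Cfsg.Agent.H506.DPL.Asm
import Cfsg.Agent.H22.DPU.NilTwo

/-! # S4247, row `[L]`, `n = 2` (helper506) -/

set_option autoImplicit false
set_option linter.unusedSectionVars false

namespace Cfsg.Agent.H506.DPL

open Matrix Module Cfsg Cfsg.Agent.H167.OP Cfsg.Agent.H170.HL Cfsg.Agent.H556.HallRowAbs Cfsg.Agent.H553.RV
open Cfsg.Agent.H817.DPi Cfsg.Agent.H572.RV

theorem st_two (hlift : StLift) : StTwo := by
  intro π p F _ _ _ P hp hpπ h2 hP
  obtain ⟨P', hL⟩ := hlift π p F 2 P hp hpπ h2 le_rfl hP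
  refine hL.nil ?_
  have hinj : Function.Injective ((rg F 2).comp P'.subtype) := by
    intro a b hab
    apply Subtype.ext
    apply Units.ext
    have h1 : ∀ v : Fin 2 → F, rg F 2 a.1 v = rg F 2 b.1 v := fun v => LinearMap.congr_fun hab v
    exact Matrix.mulVec_injective (funext fun v => h1 v)
  have hd : finrank F (Fin 2 → F) ≤ 2 := by simp
  refine Cfsg.Agent.H22.DPU.nil_two (F := F) (V := Fin 2 → F) (K := P') (ρ := (rg F 2).comp P'.subtype) hinj hd ?_
  intro r hr hrd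
  have h1 : r ∈ π := hL.hall.1 r hr hrd
  refine ⟨hr.odd_of_ne_two (fun h => h2 (h ▸ h1)), fun h0 => ?_⟩
  have h3 : p ∣ r := (CharP.cast_eq_zero_iff F p r).1 h0
  have h4 : p = r := (Nat.prime_dvd_prime_iff_eq hp hr).1 h3
  exact hpπ (h4 ▸ h1)

end Cfsg.Agent.H506.DPL
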